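import Groth.Agent.Lib.Subtr12.Noeth
import Mathlib.AlgebraicGeometry.AffineSpace

/-!
# Universal subtrusiveness is detected on affine spaces
-/

universe u

open CategoryTheory CategoryTheory.Limits AlgebraicGeometry Topology
open scoped TensorProduct

set_option backward.isDefEq.respectTransparency.types false

namespace Groth.Agent.SubtrCl12

theorem isSSubtrusive_of_isEmbedding {X Y T T' : Scheme.{u}} (f : X ⟶ Y) (a : T ⟶ Y) (b : T' ⟶ T)
    [IsImmersion b] (a' : T' ⟶ Y) (ha : b ≫ a = a') (h : Subtr.IsSSubtrusive (pullback.snd f a)) :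
    Subtr.IsSSubtrusive (pullback.snd f a') := by
  subst ha
  intro t t' ht
  obtain ⟨x, x', hxx, hx, hx'⟩ := h (ht.map b.continuous)
  have hsq : IsPullback (pullback.map f (b ≫ a) f a (𝟙 X) b (𝟙 Y) (by simp) (by simp))
      (pullback.snd f (b ≫ a)) (pullback.snd f a) b := by
    refine IsPullback.of_right ?_ (pullback.lift_snd _ _ _) (IsPullback.of_hasPullback f a)
    rw [pullback.lift_fst, Category.comp_id]
    exact IsPullback.of_hasPullback f (b ≫ a)
  let l := pullback.map f (b ≫ a) f a (𝟙 X) b (𝟙 Y) (by simp) (by simp)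
  have hl : IsImmersion l := MorphismProperty.of_isPullback (P := @IsImmersion) hsq.flip ‹_›
  have hr : ∀ z : ↥(pullback f a), pullback.snd f a z ∈ Set.range b → z ∈ Set.range l := by
    rintro z ⟨s, hs⟩
    obtain ⟨w, hw, -⟩ := Scheme.exists_preimage_of_isPullback hsq z s hs.symm
    exact ⟨w, hw⟩
  obtain ⟨w, rfl⟩ := hr x ⟨t, hx.symm⟩
  obtain ⟨w', rfl⟩ := hr x' ⟨t', hx'.symm⟩
  have hb : Function.Injective b := b.isEmbedding.injective
  refine ⟨w, w', l.isEmbedding.isInducing.specializes_iff.1 hxx, hb ?_, hb ?_⟩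
  · rw [← Scheme.Hom.comp_apply, ← hsq.w, Scheme.Hom.comp_apply]; exact hx
  · rw [← Scheme.Hom.comp_apply, ← hsq.w, Scheme.Hom.comp_apply]; exact hx'

/-- A torsion relation forbids pairs of primes over a prime and the generic point. -/
theorem no_pair_of_relation {R B A : Type u} [CommRing R] [CommRing B] [Algebra R B] [CommRing A]
    [Algebra R A] {p : Ideal A} {c t : A} (hc : c ≠ 0) (ht : t ∈ p) {a : B ⊗[R] A}
    (h : (1 ⊗ₜ c) * (1 - (1 ⊗ₜ t) * a) = 0) (q q' : PrimeSpectrum (B ⊗[R] A))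
    (hle : q'.asIdeal ≤ q.asIdeal)
    (hq : q.asIdeal.comap (Algebra.TensorProduct.includeRight.toRingHom : A →+* B ⊗[R] A) = p)
    (hq' : q'.asIdeal.comap (Algebra.TensorProduct.includeRight.toRingHom : A →+* B ⊗[R] A) = ⊥) :
    False := by
  have hcq' : (1 : B) ⊗ₜ[R] c ∉ q'.asIdeal := fun hmem =>
    hc ((Submodule.mem_bot A).1 (hq'.le hmem))
  have h1 : 1 - (1 ⊗ₜ t) * a ∈ q.asIdeal :=
    hle ((q'.isPrime.mem_or_mem (h ▸ q'.asIdeal.zero_mem)).resolve_left hcq')
  have h2 : ((1 : B) ⊗ₜ[R] t) * a ∈ q.asIdeal :=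
    Ideal.mul_mem_right _ _ (hq.ge ht)
  exact q.isPrime.ne_top ((Ideal.eq_top_iff_one _).2 (by simpa using add_mem h1 h2))

open Subtr12

set_option maxHeartbeats 1000000 in
set_option synthInstance.maxHeartbeats 100000 in
/-- A quasi-compact morphism to an affine scheme which lifts pairs of points over all finite type
domains lifts those of all valuation rings. -/
theorem exists_pair_of_forall_finiteType {R : Type u} [CommRing R] {X : Scheme.{u}}
    (f : X ⟶ Spec (CommRingCat.of R)) [QuasiCompact f]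
    (hA : ∀ (A : Type u) [CommRing A] [IsDomain A] [Algebra R A] [Algebra.FiniteType R A],
      Subtr.IsSSubtrusive (pullback.snd f (Spec.map (CommRingCat.ofHom (algebraMap R A)))))
    (V : Type u) [CommRing V] [IsDomain V] [ValuationRing V] [Algebra R V] :
    ∃ x x' : ↥(pullback f (Spec.map (CommRingCat.ofHom (algebraMap R V)))),
      x' ⤳ x ∧
      pullback.snd f (Spec.map (CommRingCat.ofHom (algebraMap R V))) x =
        IsLocalRing.closedPoint V ∧
      pullback.snd f (Spec.map (CommRingCat.ofHom (algebraMap R V))) x' =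
        (⟨⊥, Ideal.isPrime_bot⟩ : PrimeSpectrum V) := by
  classical
  by_contra hno
  have : CompactSpace X := QuasiCompact.compactSpace_of_compactSpace f
  let 𝒰 := X.affineCover.finiteSubcover
  have : ∀ i, IsAffine (𝒰.X i) := fun i => inferInstanceAs (IsAffine (Spec _))
  let B : 𝒰.I₀ → Type u := fun i => Γ(𝒰.X i, ⊤)
  let j : ∀ i, Spec (CommRingCat.of (B i)) ⟶ X := fun i => (𝒰.X i).isoSpec.inv ≫ 𝒰.f i
  let φ : ∀ i, CommRingCat.of R ⟶ CommRingCat.of (B i) := fun i => Spec.preimage (j i ≫ f)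
  let : ∀ i, Algebra R (B i) := fun i => (φ i).hom.toAlgebra
  have hj : ∀ i, j i ≫ f = Spec.map (CommRingCat.ofHom (algebraMap R (B i))) := fun i => by
    show _ = Spec.map (φ i)
    rw [Spec.map_preimage]
  have hrel : ∀ i, ∃ (c t : V) (a : B i ⊗[R] V), c ≠ 0 ∧ t ∈ IsLocalRing.maximalIdeal V ∧
      (1 ⊗ₜ c) * (1 - (1 ⊗ₜ t) * a) = 0 := fun i => exists_relation fun q q' hle hq hq' => by
    refine hno ⟨chartMap R V f (j i) (hj i) q, chartMap R V f (j i) (hj i) q',
      ((PrimeSpectrum.le_iff_specializes _ _).1 hle).map (chartMap R V f (j i) (hj i)).continuous,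
      ?_, ?_⟩
    · rw [← Scheme.Hom.comp_apply, chartMap_snd]
      exact PrimeSpectrum.ext hq
    · rw [← Scheme.Hom.comp_apply, chartMap_snd]
      exact PrimeSpectrum.ext hq'
  choose c t a hc ht h using hrel
  let π : MvPolynomial V R →ₐ[R] V := MvPolynomial.aeval id
  have hπ : Function.Surjective π := fun v => ⟨MvPolynomial.X v, by simp [π]⟩
  have hsurj : ∀ i, Function.Surjective (Algebra.TensorProduct.map (AlgHom.id R (B i)) π) :=
    fun i => TensorProduct.map_surjective Function.surjective_id hπ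
  choose a' ha' using fun i => hsurj i (a i)
  choose s hs using fun i => exists_finset_map_eq_zero
    ((1 ⊗ₜ MvPolynomial.X (c i)) * (1 - (1 ⊗ₜ MvPolynomial.X (t i)) * a' i)) (by
      simp only [map_mul, map_sub, map_one, Algebra.TensorProduct.map_tmul, MvPolynomial.aeval_X,
        id_eq]
      rw [ha' i]
      exact h i)
  let S : Finset V := Finset.univ.biUnion fun i => insert (c i) (insert (t i) (s i))
  let A : Subalgebra R V := Algebra.adjoin R (S : Set V)
  have hA' : ∀ v ∈ S, v ∈ A := fun v hv => Algebra.subset_adjoin hv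
  have : Algebra.FiniteType R A := ⟨(Subalgebra.fg_top A).2 (Subalgebra.fg_adjoin_finset S)⟩
  let θ : MvPolynomial V R →ₐ[R] A :=
    MvPolynomial.aeval fun v => if hv : v ∈ A then (⟨v, hv⟩ : A) else 0
  have hθ : ∀ v ∈ S, (θ (MvPolynomial.X v) : V) = v := fun v hv => by simp [θ, hA' v hv]
  have hmemS : ∀ i, c i ∈ S ∧ t i ∈ S ∧ ∀ v ∈ s i, v ∈ S := fun i =>
    ⟨Finset.mem_biUnion.2 ⟨i, Finset.mem_univ _, Finset.mem_insert_self _ _⟩,
      Finset.mem_biUnion.2 ⟨i, Finset.mem_univ _,
        Finset.mem_insert_of_mem (Finset.mem_insert_self _ _)⟩,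
      fun v hv => Finset.mem_biUnion.2 ⟨i, Finset.mem_univ _,
        Finset.mem_insert_of_mem (Finset.mem_insert_of_mem hv)⟩⟩
  let p : PrimeSpectrum A :=
    ⟨(IsLocalRing.maximalIdeal V).comap A.val.toRingHom, Ideal.IsPrime.comap _⟩
  let gA := Spec.map (CommRingCat.ofHom (algebraMap R A))
  obtain ⟨x, x', hxx', hx, hx'⟩ := hA A (y := p) (y' := (⟨⊥, Ideal.isPrime_bot⟩ : PrimeSpectrum A))
    ((PrimeSpectrum.le_iff_specializes _ _).1 (bot_le : (⊥ : Ideal A) ≤ p.asIdeal))
  obtain ⟨i, b, hb⟩ := 𝒰.exists_eq (pullback.fst f gA x)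
  have hjr : Set.range (j i) = Set.range (𝒰.f i) := by
    rw [show Set.range (j i) = 𝒰.f i '' Set.range (𝒰.X i).isoSpec.inv from by
      rw [← Set.range_comp]; rfl, Set.range_eq_univ.2 (𝒰.X i).isoSpec.inv.surjective,
      Set.image_univ]
  let e := chartMap R A f (j i) (hj i)
  have hxe : x ∈ Set.range e := by
    rw [range_chartMap, Set.mem_preimage, hjr]
    exact ⟨b, hb⟩
  have : IsOpenImmersion (j i) := inferInstance
  have hx'e : x' ∈ Set.range e := hxx'.mem_open e.isOpenEmbedding.isOpen_range hxe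
  obtain ⟨q, rfl⟩ := hxe
  obtain ⟨q', rfl⟩ := hx'e
  rw [← Scheme.Hom.comp_apply, chartMap_snd] at hx hx'
  have hrelA := hs i A θ fun v hv => hθ v ((hmemS i).2.2 v hv)
  simp only [map_mul, map_sub, map_one, Algebra.TensorProduct.map_tmul] at hrelA
  refine no_pair_of_relation (p := p.asIdeal) ?_ ?_ hrelA q q' ?_ (congrArg PrimeSpectrum.asIdeal hx)
    (congrArg PrimeSpectrum.asIdeal hx')
  · intro hz
    have := congrArg Subtype.val hz
    rw [hθ _ (hmemS i).1] at this
    exact hc i this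
  · show (θ (MvPolynomial.X (t i)) : V) ∈ IsLocalRing.maximalIdeal V
    rw [hθ _ (hmemS i).2.1]
    exact ht i
  · exact (PrimeSpectrum.le_iff_specializes _ _).2 (e.isEmbedding.isInducing.specializes_iff.1 hxx')

theorem univSSubtrusive_iff {X Y : Scheme.{u}} (f : X ⟶ Y) [QuasiCompact f] :
    Subtr.UnivSSubtrusive f ↔
      ∀ n : ℕ, 0 < n →
        Subtr.IsSSubtrusive (pullback.snd f (AffineSpace (ULift.{u} (Fin n)) Y ↘ Y)) := by
  refine ⟨fun h n _ => isSSubtrusive_pullback h _, fun h => univ_of_forall_valRing f ?_⟩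
  intro V _ _ _ g
  -- an affine open containing the image
  obtain ⟨U, hU, hgU, -⟩ := exists_isAffineOpen_mem_and_subset (X := Y)
    (x := g (IsLocalRing.closedPoint V)) (U := ⊤) trivial
  have hr : Set.range g ⊆ Set.range hU.fromSpec := by
    rw [hU.range_fromSpec]
    rintro _ ⟨z, rfl⟩
    exact ((IsLocalRing.specializes_closedPoint (z : PrimeSpectrum V)).map g.continuous).mem_open U.2 hgU
  let g₁ : Spec (CommRingCat.of V) ⟶ Spec Γ(Y, U) := IsOpenImmersion.lift hU.fromSpec g hr
  have hg₁ : g₁ ≫ hU.fromSpec = g := IsOpenImmersion.lift_fac _ _ _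
  let R : Type u := Γ(Y, U)
  let : Algebra R V := (Spec.preimage g₁).hom.toAlgebra
  have hgV : Spec.map (CommRingCat.ofHom (algebraMap R V)) = g₁ := Spec.map_preimage g₁
  let fR : pullback f hU.fromSpec ⟶ Spec (CommRingCat.of R) := pullback.snd f hU.fromSpec
  have hA : ∀ (A : Type u) [CommRing A] [IsDomain A] [Algebra R A] [Algebra.FiniteType R A],
      Subtr.IsSSubtrusive (pullback.snd fR (Spec.map (CommRingCat.ofHom (algebraMap R A)))) := by
    intro A _ _ _ hft
    obtain ⟨n, π, hπ⟩ := Algebra.FiniteType.iff_quotient_mvPolynomial''.1 hft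
    let ρ : Fin n → ULift.{u} (Fin (n + 1)) := fun k => ⟨k.castSucc⟩
    let π' : MvPolynomial (ULift.{u} (Fin (n + 1))) R →ₐ[R] A :=
      MvPolynomial.aeval fun k => if hk : k.down.1 < n then π (MvPolynomial.X ⟨k.down.1, hk⟩) else 0
    have hπ' : Function.Surjective π' := fun z => by
      obtain ⟨P, rfl⟩ := hπ z
      refine ⟨MvPolynomial.rename ρ P, ?_⟩
      have : π'.comp (MvPolynomial.rename ρ) = π := by
        ext k
        simp [π', ρ]
      exact AlgHom.congr_fun this P
    have : IsClosedImmersion (Spec.map (CommRingCat.ofHom π'.toRingHom)) :=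
      IsClosedImmersion.spec_of_surjective _ hπ'
    have : IsOpenImmersion (AffineSpace.map (ULift.{u} (Fin (n + 1))) hU.fromSpec) :=
      MorphismProperty.of_isPullback (P := @IsOpenImmersion)
        (AffineSpace.isPullback_map (n := ULift.{u} (Fin (n + 1))) hU.fromSpec).flip inferInstance
    let b : Spec (CommRingCat.of A) ⟶ AffineSpace (ULift.{u} (Fin (n + 1))) Y :=
      (Spec.map (CommRingCat.ofHom π'.toRingHom) ≫
        (AffineSpace.SpecIso (ULift.{u} (Fin (n + 1))) (CommRingCat.of R)).inv) ≫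
          AffineSpace.map (ULift.{u} (Fin (n + 1))) hU.fromSpec
    have hb : b ≫ (AffineSpace (ULift.{u} (Fin (n + 1))) Y ↘ Y) =
        Spec.map (CommRingCat.ofHom (algebraMap R A)) ≫ hU.fromSpec := by
      have h1 : CommRingCat.ofHom (MvPolynomial.C (R := R) (σ := ULift.{u} (Fin (n + 1)))) ≫
          CommRingCat.ofHom π'.toRingHom = CommRingCat.ofHom (algebraMap R A) := by
        ext r
        exact π'.commutes r
      simp only [b, Category.assoc, AffineSpace.map_over, AffineSpace.SpecIso_inv_over_assoc]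
      rw [← h1, Spec.map_comp, Category.assoc]
    have h2 := isSSubtrusive_of_isEmbedding f _ b _ hb (h (n + 1) n.succ_pos)
    intro y y' hyy
    obtain ⟨z, z', hz, h3, h4⟩ := h2 hyy
    let E := pullbackLeftPullbackSndIso f hU.fromSpec (Spec.map (CommRingCat.ofHom (algebraMap R A)))
    exact ⟨E.inv z, E.inv z', hz.map E.inv.continuous,
      by rw [← Scheme.Hom.comp_apply, pullbackLeftPullbackSndIso_inv_snd_snd]; exact h3,
      by rw [← Scheme.Hom.comp_apply, pullbackLeftPullbackSndIso_inv_snd_snd]; exact h4⟩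
  let g₂ := Spec.map (CommRingCat.ofHom (algebraMap R V))
  have hg₂ : g₂ ≫ hU.fromSpec = g := by rw [show g₂ = g₁ from hgV]; exact hg₁
  obtain ⟨z, z', hz, h3, h4⟩ := exists_pair_of_forall_finiteType fR hA V
  -- identify with the pullback along `g`
  intro y y' hyy
  let E := pullbackLeftPullbackSndIso f hU.fromSpec g₂
  have hEm : E.hom ≫ (pullback.congrHom rfl hg₂).hom ≫ pullback.snd f g = pullback.snd fR g₂ := by
    rw [← cancel_epi E.inv]
    simp [E, fR, pullback.congrHom]
    rw [pullback.lift_snd, Category.comp_id]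
  have hE : ∀ w, pullback.snd f g (((pullback.congrHom rfl hg₂).hom) (E.hom w)) = pullback.snd fR g₂ w := fun w => by
    rw [← hEm]; rfl
  obtain ⟨W, _, _, _, m, hm⟩ := exists_valRing_surjective (pullback.snd fR g₂) hz h3 h4
  obtain ⟨σ, hσ, hσ'⟩ := exists_section (m ≫ pullback.snd fR g₂)
  refine ⟨(pullback.congrHom rfl hg₂).hom (E.hom (m (σ y))), (pullback.congrHom rfl hg₂).hom (E.hom (m (σ y'))),
    (((hσ' y' y hyy).map m.continuous).map E.hom.continuous).map (pullback.congrHom rfl hg₂).hom.continuous, ?_, ?_⟩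
  · rw [hE]; exact hσ y
  · rw [hE]; exact hσ y'

end Groth.Agent.SubtrCl12
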