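import Groth.Agent.Lib.ConsTop3.Range
import Groth.Agent.Lib.ConsTop3.Scheme
import Groth.Prelude.Def_W4c2submetdescSubtr
import Mathlib.RingTheory.Ideal.MinimalPrime.Localization

/-!
# Closures of pro-constructible subsets and subtrusive morphisms
-/

universe u

open CategoryTheory AlgebraicGeometry TopologicalSpace Topology

set_option backward.isDefEq.respectTransparency.types false

namespace Groth.Agent.SubtrCl12

variable {X : Scheme.{u}}

theorem exists_specializes_range {A B : Type u} [CommRing A] [CommRing B] (φ : A →+* B)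
    {x : PrimeSpectrum A} (hx : x ∈ closure (Set.range (PrimeSpectrum.comap φ))) :
    ∃ z ∈ Set.range (PrimeSpectrum.comap φ), z ⤳ x := by
  have hsub : Set.range (PrimeSpectrum.comap φ) ⊆ PrimeSpectrum.zeroLocus (RingHom.ker φ : Set A) := by
    rintro _ ⟨q, rfl⟩
    exact fun a ha => by
      show φ a ∈ q.asIdeal
      rw [RingHom.mem_ker.1 ha]; exact zero_mem _
  have hker : RingHom.ker φ ≤ x.asIdeal :=
    closure_minimal hsub (PrimeSpectrum.isClosed_zeroLocus _) hx
  obtain ⟨m, hm, hmx⟩ := Ideal.exists_minimalPrimes_le hker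
  obtain ⟨q, hq, -, hqm⟩ := Ideal.exists_comap_eq_of_mem_minimalPrimes φ (I := ⊥) m hm
  refine ⟨_, ⟨⟨q, hq⟩, rfl⟩, (PrimeSpectrum.le_iff_specializes _ _).1 ?_⟩
  show q.comap φ ≤ x.asIdeal
  rw [hqm]; exact hmx

theorem isProConstructible_singleton (y : X) : ProCons.IsProConstructible ({y} : Set X) := by
  rw [← ConsTop3.isIndConstructible_compl_iff]
  refine ConsTop3.isIndConstructible_of_forall_affine fun U hU => ?_
  refine ConsTop3.isIndConstructible_of_forall_exists fun p hp => ?_
  by_cases hy : y ∈ Set.range hU.fromSpec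
  · obtain ⟨q, rfl⟩ := hy
    have hpq : (p : PrimeSpectrum Γ(X, U)) ≠ q := fun h => hp (congrArg hU.fromSpec h)
    have hC : ∀ a : Γ(X, U), IsConstructible (PrimeSpectrum.basicOpen a : Set (PrimeSpectrum Γ(X, U))) := fun a =>
      ((PrimeSpectrum.isCompact_basicOpen a).isRetrocompact (PrimeSpectrum.basicOpen a).2).isConstructible
        (PrimeSpectrum.basicOpen a).2
    by_cases hle : p.asIdeal ≤ q.asIdeal
    · obtain ⟨a, haq, hap⟩ := Set.exists_of_ssubset (lt_of_le_of_ne hle
        (fun h => hpq (PrimeSpectrum.ext h)) : p.asIdeal < q.asIdeal)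
      refine ⟨(PrimeSpectrum.basicOpen a : Set (PrimeSpectrum Γ(X, U))), hC a, hap, fun r hr h => ?_⟩
      obtain rfl : r = q := hU.fromSpec.isOpenEmbedding.injective h
      exact hr haq
    · obtain ⟨a, hap, haq⟩ := Set.not_subset.1 hle
      refine ⟨(PrimeSpectrum.basicOpen a : Set (PrimeSpectrum Γ(X, U)))ᶜ, (hC a).compl, fun h => h hap,
        fun r hr h => ?_⟩
      obtain rfl : r = q := hU.fromSpec.isOpenEmbedding.injective h
      exact hr haq
  · exact ⟨Set.univ, IsConstructible.univ, trivial, fun r _ h => hy ⟨r, h⟩⟩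

theorem exists_specializes_of_mem_closure {Z : Set X} (hZ : ProCons.IsProConstructible Z) {x : X}
    (hx : x ∈ closure Z) : ∃ z ∈ Z, z ⤳ x := by
  obtain ⟨U, hU, hxU, -⟩ := exists_isAffineOpen_mem_and_subset (X := X) (x := x) (U := ⊤) trivial
  obtain ⟨p, rfl⟩ : x ∈ Set.range hU.fromSpec := by rw [hU.range_fromSpec]; exact hxU
  obtain ⟨X', g, hX', hg⟩ := ConsTop3.exists_affine_range_eq (ConsH13.isProConstructible_preimage hU.fromSpec hZ)
  have hp : p ∈ closure (hU.fromSpec ⁻¹' Z) := by
    rw [← hU.fromSpec.isOpenEmbedding.isOpenMap.preimage_closure_eq_closure_preimage hU.fromSpec.continuous]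
    exact hx
  let φ : Γ(X, U) ⟶ Γ(X', ⊤) := Spec.preimage (X'.isoSpec.inv ≫ g)
  have hr : Set.range (PrimeSpectrum.comap φ.hom) = hU.fromSpec ⁻¹' Z := by
    rw [← hg]
    show Set.range (Spec.map φ) = _
    rw [Spec.map_preimage, Scheme.Hom.comp_base, TopCat.coe_comp, Set.range_comp,
      Set.range_eq_univ.2 X'.isoSpec.inv.surjective, Set.image_univ]
  rw [← hr] at hp
  obtain ⟨z, hz, hzp⟩ := exists_specializes_range φ.hom hp
  rw [hr] at hz
  exact ⟨hU.fromSpec z, hz, hzp.map hU.fromSpec.continuous⟩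

theorem isSSubtrusive_iff {Y : Scheme.{u}} (f : X ⟶ Y) :
    Subtr.IsSSubtrusive f ↔
      ∀ Z : Set Y, ProCons.IsProConstructible Z → f '' closure (f ⁻¹' Z) = closure Z := by
  constructor
  · intro h Z hZ
    refine subset_antisymm ((image_closure_subset_closure_image f.continuous).trans
      (closure_mono (Set.image_preimage_subset _ _))) fun y hy => ?_
    obtain ⟨z, hz, hzy⟩ := exists_specializes_of_mem_closure hZ hy
    obtain ⟨x, x', hxx, rfl, hx'⟩ := h hzy
    exact ⟨x, hxx.mem_closed isClosed_closure (subset_closure (show f x' ∈ Z from hx' ▸ hz)), rfl⟩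
  · intro h y y' hy
    have := h {y'} (isProConstructible_singleton y')
    have hy' : y ∈ f '' closure (f ⁻¹' {y'}) := this ▸ hy.mem_closure
    obtain ⟨x, hx, rfl⟩ := hy'
    obtain ⟨x', hx', hxx⟩ := exists_specializes_of_mem_closure
      (ConsH13.isProConstructible_preimage f (isProConstructible_singleton y')) hx
    exact ⟨x, x', hxx, rfl, hx'⟩

end Groth.Agent.SubtrCl12
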